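/- Cartan–Eilenberg resolutions of bounded below complexes. -/
import Mathlib
import Groth.Prelude.Def_CE

set_option autoImplicit false
set_option backward.isDefEq.respectTransparency false
universe v u

open CategoryTheory CategoryTheory.Limits ZeroObject

noncomputable section
attribute [local instance] preservesBinaryBiproducts_of_preservesBiproducts
namespace CERes8

variable {A : Type u} [Category.{v} A] [Abelian A]

/-- the disk complex on a family. -/
def disk (J : ℤ → A) : (CochainComplex A ℤ) :=
  CochainComplex.of (fun p => J p ⊞ J (p + 1)) (fun p => biprod.snd ≫ biprod.inl) (fun p => by simp)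

theorem disk_d (J : ℤ → A) (p : ℤ) : (disk J).d p (p + 1) = biprod.snd ≫ biprod.inl :=
  CochainComplex.of_d (fun p => J p ⊞ J (p + 1)) (fun p => biprod.snd ≫ biprod.inl) p

/-- the zero differential complex on a family. -/
def flat (M : ℤ → A) : (CochainComplex A ℤ) := CochainComplex.of M (fun _ => 0) (fun _ => by simp)

theorem flat_d (M : ℤ → A) (i j : ℤ) : (flat M).d i j = 0 := by
  by_cases h : i + 1 = j
  · subst h; exact CochainComplex.of_d M (fun _ => 0) i
  · exact (flat M).shape i j h

theorem preservesBinaryBiproducts_cyclesFunctor (p : ℤ) :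
    PreservesBinaryBiproducts (HomologicalComplex.cyclesFunctor A (ComplexShape.up ℤ) p) := by
  haveI : (HomologicalComplex.cyclesFunctor A (ComplexShape.up ℤ) p).Additive :=
    ⟨fun {X Y f g} => by rw [← cancel_mono (Y.iCycles p)]; simp⟩
  exact preservesBinaryBiproducts_of_preservesBiproducts _

theorem preservesBinaryBiproducts_homologyFunctor (p : ℤ) :
    PreservesBinaryBiproducts (HomologicalComplex.homologyFunctor A (ComplexShape.up ℤ) p) := by
  haveI : (HomologicalComplex.homologyFunctor A (ComplexShape.up ℤ) p).Additive := inferInstance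
  exact preservesBinaryBiproducts_of_preservesBiproducts _

variable [EnoughInjectives A] (n : ℤ) (K : (CochainComplex A ℤ))

def J (p : ℤ) : A := if n < p then Injective.under (K.X p) else 0

def a (p : ℤ) : K.X p ⟶ J n K p :=
  if h : n < p then Injective.ι (K.X p) ≫ eqToHom (if_pos h).symm else 0

def M (p : ℤ) : A := if n ≤ p then Injective.under (K.opcycles p) else 0

def e (p : ℤ) : K.opcycles p ⟶ M n K p :=
  if h : n ≤ p then Injective.ι (K.opcycles p) ≫ eqToHom (if_pos h).symm else 0

instance injective_J (p : ℤ) : Injective (J n K p) := by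
  unfold J; split_ifs <;> infer_instance

instance injective_M (p : ℤ) : Injective (M n K p) := by
  unfold M; split_ifs <;> infer_instance

theorem mono_a (p : ℤ) (h : n < p) : Mono (a n K p) := by
  rw [a, dif_pos h]; infer_instance

theorem mono_e (p : ℤ) (h : n ≤ p) : Mono (e n K p) := by
  rw [e, dif_pos h]; infer_instance

def toDisk : K ⟶ disk (J n K) where
  f p := biprod.lift (a n K p) (K.d p (p + 1) ≫ a n K (p + 1))
  comm' p q h := by
    obtain rfl : p + 1 = q := h
    rw [disk_d]
    apply biprod.hom_ext <;> simp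

def toFlat : K ⟶ flat (M n K) where
  f p := K.pOpcycles p ≫ e n K p
  comm' p q h := by
    rw [flat_d, comp_zero, K.d_pOpcycles_assoc, zero_comp]

/-- the enveloping complex. -/
def env : (CochainComplex A ℤ) := disk (J n K) ⊞ flat (M n K)

def emb : K ⟶ env n K := biprod.lift (toDisk n K) (toFlat n K)

theorem emb_fst : emb n K ≫ biprod.fst = toDisk n K := biprod.lift_fst _ _

theorem emb_snd : emb n K ≫ biprod.snd = toFlat n K := biprod.lift_snd _ _

theorem isStrictlyGE_env : (env n K).IsStrictlyGE n := by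
  rw [CochainComplex.isStrictlyGE_iff]
  intro p hp
  have hJ : ∀ q, q ≤ n → IsZero (J n K q) := fun q hq => by
    rw [J, if_neg (by omega)]; exact isZero_zero A
  refine IsZero.of_iso (Y := (disk (J n K)).X p ⊞ (flat (M n K)).X p) ?_
    ((HomologicalComplex.eval A _ p).mapBiprod (disk (J n K)) (flat (M n K)))
  refine (biprod_isZero_iff _ _).2 ⟨(biprod_isZero_iff _ _).2 ⟨hJ p (by omega), hJ (p + 1) (by omega)⟩, ?_⟩
  show IsZero (M n K p)
  rw [M, if_neg (by omega)]; exact isZero_zero A

variable [K.IsStrictlyGE n]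

theorem mono_emb_f (p : ℤ) : Mono ((emb n K).f p) := by
  by_cases h : p < n
  · exact ⟨fun _ _ _ => (CochainComplex.isZero_of_isStrictlyGE K n p h).eq_of_tgt _ _⟩
  by_cases h' : n < p
  · haveI := mono_a n K p h'
    haveI : Mono ((emb n K).f p ≫ (biprod.fst : env n K ⟶ _).f p ≫ biprod.fst) := by
      rw [← Category.assoc, ← HomologicalComplex.comp_f, emb_fst]
      simp only [toDisk, biprod.lift_fst]
      infer_instance
    exact mono_of_mono _ ((biprod.fst : env n K ⟶ _).f p ≫ biprod.fst)
  · obtain rfl : p = n := by omega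
    haveI := mono_e p K p le_rfl
    haveI : IsIso (K.pOpcycles p) := K.isIso_pOpcycles (p - 1) p (by simp)
      ((CochainComplex.isZero_of_isStrictlyGE K p (p - 1) (by omega)).eq_of_src _ _)
    haveI : Mono ((emb p K).f p ≫ (biprod.snd : env p K ⟶ _).f p) := by
      rw [← HomologicalComplex.comp_f, emb_snd]
      simp only [toFlat]
      infer_instance
    exact mono_of_mono _ ((biprod.snd : env p K ⟶ _).f p)

theorem mono_emb : Mono (emb n K) := HomologicalComplex.mono_of_mono_f _ (mono_emb_f n K)

omit [K.IsStrictlyGE n] in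
theorem injective_env_X (p : ℤ) : Injective ((env n K).X p) := by
  haveI : Injective ((disk (J n K)).X p) := inferInstanceAs (Injective (J n K p ⊞ J n K (p + 1)))
  haveI : Injective ((flat (M n K)).X p) := injective_M n K p
  exact Injective.of_iso ((HomologicalComplex.eval A _ p).mapBiprod (disk (J n K)) (flat (M n K))).symm
    (inferInstanceAs (Injective ((disk (J n K)).X p ⊞ (flat (M n K)).X p)))

omit [EnoughInjectives A] in
theorem injective_cycles_disk (F : ℤ → A) [∀ p, Injective (F p)] (p : ℤ) : Injective ((disk F).cycles p) := by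
  refine Retract.injective (Y := F p)
    { i := (disk F).iCycles p ≫ biprod.fst
      r := (disk F).liftCycles biprod.inl (p + 1) (by simp) (by rw [disk_d]; simp)
      retract := ?_ }
  have hsnd : (disk F).iCycles p ≫ biprod.snd = 0 := by
    have h := (disk F).iCycles_d p (p + 1)
    rw [disk_d] at h
    have := congrArg (· ≫ biprod.fst) h
    simpa using this
  apply (cancel_mono ((disk F).iCycles p)).1
  rw [Category.assoc, HomologicalComplex.liftCycles_i, Category.id_comp]
  apply biprod.hom_ext <;> simp [hsnd]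

omit [EnoughInjectives A] in
theorem isZero_homology_disk (F : ℤ → A) (p : ℤ) : IsZero ((disk F).homology p) := by
  rw [← HomologicalComplex.exactAt_iff_isZero_homology,
    HomologicalComplex.exactAt_iff' _ (p - 1) p (p + 1) (by simp) (by simp)]
  rw [ShortComplex.exact_iff_exact_up_to_refinements]
  intro T x hx
  obtain ⟨q, rfl⟩ : ∃ q, q + 1 = p := ⟨p - 1, by omega⟩
  change ∃ (T' : A) (π : T' ⟶ T) (_ : Epi π) (y : T' ⟶ (disk F).X (q + 1 - 1)), π ≫ x = y ≫ (disk F).d (q + 1 - 1) (q + 1)
  rw [show q + 1 - 1 = q by omega]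
  have hsnd : x ≫ biprod.snd = 0 := by
    have h' : x ≫ (disk F).d (q + 1) (q + 1 + 1) = 0 := hx
    rw [disk_d] at h'
    have := congrArg (· ≫ biprod.fst) h'
    simpa using this
  refine ⟨T, 𝟙 T, inferInstance, x ≫ biprod.fst ≫ biprod.inr, ?_⟩
  show 𝟙 T ≫ x = (x ≫ biprod.fst ≫ biprod.inr) ≫ (disk F).d q (q + 1)
  rw [disk_d]
  apply biprod.hom_ext <;> simp [hsnd]

omit [EnoughInjectives A] in
theorem injective_cycles_flat (F : ℤ → A) [∀ p, Injective (F p)] (p : ℤ) : Injective ((flat F).cycles p) := by
  haveI := (flat F).isIso_iCycles p (p + 1) (by simp) (flat_d F _ _)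
  exact Injective.of_iso (asIso ((flat F).iCycles p)).symm (inferInstance : Injective (F p))

omit [EnoughInjectives A] in
theorem injective_homology_flat (F : ℤ → A) [∀ p, Injective (F p)] (p : ℤ) : Injective ((flat F).homology p) := by
  haveI := injective_cycles_flat F p
  haveI := (flat F).isIso_homologyπ (p - 1) p (by simp) (flat_d F _ _)
  exact Injective.of_iso (asIso ((flat F).homologyπ p)) inferInstance

omit [K.IsStrictlyGE n] in
theorem injective_env_cycles (p : ℤ) : Injective ((env n K).cycles p) := by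
  haveI := injective_cycles_disk (J n K) p
  haveI := injective_cycles_flat (M n K) p
  haveI := preservesBinaryBiproducts_cyclesFunctor (A := A) p
  exact Injective.of_iso ((HomologicalComplex.cyclesFunctor A _ p).mapBiprod (disk (J n K)) (flat (M n K))).symm
    (inferInstanceAs (Injective ((disk (J n K)).cycles p ⊞ (flat (M n K)).cycles p)))

omit [K.IsStrictlyGE n] in
theorem injective_env_homology (p : ℤ) : Injective ((env n K).homology p) := by
  haveI := injective_homology_flat (M n K) p
  haveI : Injective ((disk (J n K)).homology p) :=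
    Injective.of_iso (isZero_homology_disk (J n K) p).isoZero.symm inferInstance
  haveI := preservesBinaryBiproducts_homologyFunctor (A := A) p
  exact Injective.of_iso ((HomologicalComplex.homologyFunctor A _ p).mapBiprod (disk (J n K)) (flat (M n K))).symm
    (inferInstanceAs (Injective ((disk (J n K)).homology p ⊞ (flat (M n K)).homology p)))

theorem mono_homologyMap_emb (p : ℤ) : Mono (HomologicalComplex.homologyMap (emb n K) p) := by
  by_cases h : n ≤ p
  · haveI := mono_e n K p h
    haveI := (flat (M n K)).isIso_pOpcycles (p - 1) p (by simp) (flat_d _ _ _)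
    haveI : Mono (HomologicalComplex.homologyMap (emb n K) p ≫
        HomologicalComplex.homologyMap (biprod.snd : env n K ⟶ _) p ≫
        (flat (M n K)).homologyι p ≫ inv ((flat (M n K)).pOpcycles p)) := by
      rw [← HomologicalComplex.homologyMap_comp_assoc, emb_snd, HomologicalComplex.homologyι_naturality_assoc]
      have : HomologicalComplex.opcyclesMap (toFlat n K) p ≫ inv ((flat (M n K)).pOpcycles p) = e n K p := by
        rw [IsIso.comp_inv_eq, ← cancel_epi (K.pOpcycles p), HomologicalComplex.p_opcyclesMap]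
        simp [toFlat]
      rw [this]
      exact mono_comp _ _
    exact mono_of_mono _ (HomologicalComplex.homologyMap (biprod.snd : env n K ⟶ _) p ≫
      (flat (M n K)).homologyι p ≫ inv ((flat (M n K)).pOpcycles p))
  · refine ⟨fun _ _ _ => IsZero.eq_of_tgt ?_ _ _⟩
    rw [← HomologicalComplex.exactAt_iff_isZero_homology]
    exact HomologicalComplex.ExactAt.of_isZero (CochainComplex.isZero_of_isStrictlyGE K n p (by omega))

/-- the basic short exact sequence. -/
def ses : ShortComplex (CochainComplex A ℤ) := ShortComplex.mk (emb n K) (cokernel.π (emb n K)) (cokernel.condition _)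

theorem ses_shortExact : (ses n K).ShortExact :=
  haveI := mono_emb n K
  { exact := ShortComplex.exact_cokernel _
    mono_f := inferInstanceAs (Mono (emb n K))
    epi_g := inferInstanceAs (Epi (cokernel.π (emb n K))) }

theorem shortExact_homology (p : ℤ) :
    ((ses n K).map (HomologicalComplex.homologyFunctor A _ p)).ShortExact := by
  have h := ses_shortExact n K
  refine { exact := h.homology_exact₂ p, mono_f := mono_homologyMap_emb n K p, epi_g := ?_ }
  have hδ : h.δ p (p + 1) rfl = 0 := by
    haveI : Mono (HomologicalComplex.homologyMap (ses n K).f (p + 1)) := mono_homologyMap_emb n K (p + 1)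
    rw [← cancel_mono (HomologicalComplex.homologyMap (ses n K).f (p + 1)), h.δ_comp, zero_comp]
  exact (h.homology_exact₃ p (p + 1) rfl).epi_f hδ

theorem shortExact_cycles (p : ℤ) :
    ((ses n K).map (HomologicalComplex.cyclesFunctor A _ p)).ShortExact := by
  have h := ses_shortExact n K
  haveI := h.mono_f
  haveI := h.epi_g
  have hev : ∀ k, ((ses n K).map (HomologicalComplex.eval A _ k)).ShortExact := fun k => h.map_of_exact _
  have hm : Mono (HomologicalComplex.cyclesMap (ses n K).f p) := inferInstance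
  refine { exact := ?_, mono_f := hm, epi_g := ?_ }
  · exact HomologicalComplex.cycles_left_exact (ses n K) h.exact p
  · rw [epi_iff_surjective_up_to_refinements]
    intro T z
    haveI := (hev p).epi_g
    obtain ⟨T₁, π₁, _, y, hy⟩ := surjective_up_to_refinements_of_epi ((ses n K).g.f p) (z ≫ (ses n K).X₃.iCycles p)
    have hyd : (y ≫ (ses n K).X₂.d p (p + 1)) ≫ (ses n K).g.f (p + 1) = 0 := by
      rw [Category.assoc, ← HomologicalComplex.Hom.comm, ← Category.assoc, ← hy]
      simp
    haveI : Mono ((ses n K).f.f (p + 1)) := (hev (p + 1)).mono_f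
    haveI := (hev (p + 1)).mono_f
    haveI : Mono ((ses n K).f.f (p + 2)) := (hev (p + 2)).mono_f
    obtain ⟨k, hk⟩ : ∃ k : T₁ ⟶ (ses n K).X₁.X (p + 1), k ≫ (ses n K).f.f (p + 1) = y ≫ (ses n K).X₂.d p (p + 1) :=
      ⟨(hev (p + 1)).exact.lift _ hyd, (hev (p + 1)).exact.lift_f _ _⟩
    have hkd : k ≫ (ses n K).X₁.d (p + 1) (p + 2) = 0 := by
      rw [← cancel_mono ((ses n K).f.f (p + 2)), Category.assoc, ← HomologicalComplex.Hom.comm, ← Category.assoc, hk]
      simp
    have hmh : Mono (HomologicalComplex.homologyMap (ses n K).f (p + 1)) := mono_homologyMap_emb n K (p + 1)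
    rw [HomologicalComplex.mono_homologyMap_iff_up_to_refinements _ p (p + 1) (p + 2) (by simp)
      (by simp; omega)] at hmh
    obtain ⟨T₂, π₂, _, k', hk'⟩ := hmh k hkd y hk
    have hcyc : (π₂ ≫ y - k' ≫ (ses n K).f.f p) ≫ (ses n K).X₂.d p (p + 1) = 0 := by
      rw [Preadditive.sub_comp, Category.assoc, Category.assoc, HomologicalComplex.Hom.comm, ← Category.assoc k',
        ← hk', Category.assoc, hk, sub_self]
    refine ⟨T₂, π₂ ≫ π₁, inferInstance, (ses n K).X₂.liftCycles _ (p + 1) (by simp) hcyc, ?_⟩
    show (π₂ ≫ π₁) ≫ z = _ ≫ HomologicalComplex.cyclesMap (ses n K).g p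
    rw [← cancel_mono ((ses n K).X₃.iCycles p), Category.assoc, Category.assoc, Category.assoc,
      HomologicalComplex.cyclesMap_i, HomologicalComplex.liftCycles_i_assoc, Preadditive.sub_comp, Category.assoc,
      Category.assoc, ← HomologicalComplex.comp_f, (ses n K).zero]
    simp [hy]

theorem isStrictlyGE_coker : (cokernel (emb n K)).IsStrictlyGE n := by
  have h := ses_shortExact n K
  haveI := h.epi_g
  haveI := isStrictlyGE_env n K
  rw [CochainComplex.isStrictlyGE_iff]
  intro p hp
  haveI := (h.map_of_exact (HomologicalComplex.eval A _ p)).epi_g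
  exact IsZero.of_epi ((cokernel.π (emb n K)).f p) (CochainComplex.isZero_of_isStrictlyGE _ n p hp)

/-- the iterated cokernels. -/
def Q : ℕ → {L : (CochainComplex A ℤ) // L.IsStrictlyGE n}
  | 0 => ⟨K, inferInstance⟩
  | m + 1 => haveI := (Q m).2; ⟨cokernel (emb n (Q m).1), isStrictlyGE_coker n (Q m).1⟩

instance (m : ℕ) : (Q n K m).1.IsStrictlyGE n := (Q n K m).2

def I (m : ℕ) : (CochainComplex A ℤ) := env n (Q n K m).1

def π (m : ℕ) : I n K m ⟶ (Q n K (m + 1)).1 := cokernel.π _

def d (m : ℕ) : I n K m ⟶ I n K (m + 1) := π n K m ≫ emb n (Q n K (m + 1)).1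

theorem d_d (m : ℕ) : d n K m ≫ d n K (m + 1) = 0 := by
  show (π n K m ≫ emb n (Q n K (m + 1)).1) ≫ cokernel.π (emb n (Q n K (m + 1)).1) ≫ _ = 0
  rw [Category.assoc, cokernel.condition_assoc, zero_comp, comp_zero]

/-- terms of the resolution. -/
def X : ℤ → (CochainComplex A ℤ)
  | Int.ofNat m => I n K m
  | Int.negSucc _ => 0

def dX : ∀ q : ℤ, X n K q ⟶ X n K (q + 1)
  | Int.ofNat m => d n K m
  | Int.negSucc _ => 0

/-- the resolution. -/
def res : CochainComplex (CochainComplex A ℤ) ℤ :=
  CochainComplex.of (X n K) (dX n K) (fun q => by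
    rcases q with m | m
    · exact d_d n K m
    · exact zero_comp)

theorem res_d (m : ℕ) : (res n K).d (m : ℤ) ((m : ℤ) + 1) = d n K m :=
  CochainComplex.of_d (X n K) (dX n K) (m : ℤ)

def aug : K ⟶ (res n K).X 0 := emb n K

theorem aug_d : aug n K ≫ (res n K).d 0 1 = 0 := by
  rw [show (res n K).d 0 1 = d n K 0 from res_d n K 0]
  show emb n K ≫ cokernel.π (emb n K) ≫ _ = 0
  rw [cokernel.condition_assoc, zero_comp]

theorem isZero_res {p q : ℤ} (hp : p < n) : IsZero (((res n K).X q).X p) := by
  rcases q with m | m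
  · haveI := isStrictlyGE_env n (Q n K m).1
    exact CochainComplex.isZero_of_isStrictlyGE (env n (Q n K m).1) n p hp
  · exact (HomologicalComplex.eval A _ p).map_isZero (isZero_zero _)

omit [EnoughInjectives A] in
theorem exact_of_splice {X₁ X₂ X₃ : A} (f : X₁ ⟶ X₂) (g : X₂ ⟶ X₃) (w : f ≫ g = 0)
    {W : A} (i : W ⟶ X₂) (p : X₁ ⟶ W) [Epi p] {V : A} (q : X₂ ⟶ V) (j : V ⟶ X₃) [Mono j]
    (hf : f = p ≫ i) (hg : g = q ≫ j) (z : i ≫ q = 0) (h : (ShortComplex.mk i q z).Exact) :
    (ShortComplex.mk f g w).Exact := by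
  subst hf hg
  let S₁ := ShortComplex.mk (p ≫ i) q (by rw [Category.assoc, z, comp_zero])
  have h1 : S₁.Exact := by
    let φ : S₁ ⟶ ShortComplex.mk i q z := { τ₁ := p, τ₂ := 𝟙 _, τ₃ := 𝟙 _ }
    exact (ShortComplex.exact_iff_of_epi_of_isIso_of_mono φ).2 h
  let ψ : S₁ ⟶ ShortComplex.mk (p ≫ i) (q ≫ j) w := { τ₁ := 𝟙 _, τ₂ := 𝟙 _, τ₃ := j }
  exact (ShortComplex.exact_iff_of_epi_of_isIso_of_mono ψ).1 h1

theorem isInjResolutionVia (F : (CochainComplex A ℤ) ⥤ A) [F.PreservesZeroMorphisms]
    (hinj : ∀ (L : (CochainComplex A ℤ)) [L.IsStrictlyGE n], Injective (F.obj (env n L)))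
    (hses : ∀ (L : (CochainComplex A ℤ)) [L.IsStrictlyGE n], ((ses n L).map F).ShortExact) :
    CE.IsInjResolutionVia ((F.mapHomologicalComplex (ComplexShape.up ℤ)).obj (res n K)) (F.obj K)
      (F.map (aug n K)) := by
  set C := (F.mapHomologicalComplex (ComplexShape.up ℤ)).obj (res n K)
  have hneg : ∀ m : ℕ, IsZero (C.X (Int.negSucc m)) := fun m => F.map_isZero (isZero_zero _)
  refine ⟨(F.map_comp _ _).symm.trans ((congrArg F.map (aug_d n K)).trans (F.map_zero _ _)), ?_, ?_, ?_, ?_, ?_⟩
  · rw [CochainComplex.isStrictlyGE_iff]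
    rintro (m | m) h
    · exact absurd h (by simp)
    · exact hneg m
  · rintro (m | m)
    · exact hinj (Q n K m).1
    · exact Injective.of_iso (hneg m).isoZero.symm inferInstance
  · rintro (m | m) h
    · obtain ⟨k, rfl⟩ : ∃ k, m = k + 1 := by
        rcases m with _ | m
        · exact absurd rfl h
        · exact ⟨m, rfl⟩
      show C.ExactAt ((k : ℤ) + 1)
      rw [HomologicalComplex.exactAt_iff' C (k : ℤ) ((k : ℤ) + 1) ((k : ℤ) + 1 + 1) (by simp) (by simp)]
      have h1 := hses (Q n K k).1
      have h2 := hses (Q n K (k + 1)).1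
      have h3 := hses (Q n K (k + 2)).1
      haveI : Epi (F.map (π n K k)) := h1.epi_g
      haveI : Mono (F.map (emb n (Q n K (k + 2)).1)) := h3.mono_f
      exact exact_of_splice _ _ _ (F.map (emb n (Q n K (k + 1)).1)) (F.map (π n K k)) (F.map (π n K (k + 1)))
        (F.map (emb n (Q n K (k + 2)).1)) ((congrArg F.map (res_d n K k)).trans (F.map_comp _ _))
        ((congrArg F.map (res_d n K (k + 1))).trans (F.map_comp _ _))
        _ h2.exact
    · exact HomologicalComplex.ExactAt.of_isZero (hneg m)
  · exact (hses K).mono_f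
  · have h1 := hses K
    have h2 := hses (Q n K 1).1
    haveI : Mono (F.map (emb n (Q n K 1).1)) := h2.mono_f
    exact exact_of_splice _ _ _ (F.map (emb n K)) (𝟙 _) (F.map (π n K 0)) (F.map (emb n (Q n K 1).1))
      (Category.id_comp _).symm ((congrArg F.map (res_d n K 0)).trans (F.map_comp _ _)) _ h1.exact

end CERes8
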